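import Mathlib

set_option autoImplicit false
set_option linter.style.haveILetI false

universe u

namespace Groth.Agent.H8.KosIndep

variable {A : Type u} [CommRing A]

/-- `E × N ≃ N` with `N` finite forces `E = 0`. -/
theorem subsingleton_of_prod_equiv {E N : Type u} [AddCommGroup E] [Module A E] [AddCommGroup N]
    [Module A N] [Module.Finite A N] (φ : N ≃ₗ[A] (E × N)) : Subsingleton E := by
  let ψ : N →ₗ[A] N := (LinearMap.snd A E N).comp φ.toLinearMap
  have hsurj : Function.Surjective ψ := by
    intro n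
    exact ⟨φ.symm (0, n), by simp [ψ]⟩
  have hinj : Function.Injective ψ := OrzechProperty.injective_of_surjective_endomorphism ψ hsurj
  refine ⟨fun e e' => ?_⟩
  have h1 : ψ (φ.symm (e, 0)) = ψ (φ.symm (e', 0)) := by simp [ψ]
  have h2 := φ.symm.injective (hinj h1)
  exact congrArg Prod.fst h2

/-- a module is equivalent to its product with a trivial module. -/
noncomputable def prodSubsingletonEquiv (E N : Type u) [AddCommGroup E] [Module A E]
    [AddCommGroup N] [Module A N] [Subsingleton N] : E ≃ₗ[A] (E × N) where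
  toFun x := (x, 0)
  invFun p := p.1
  map_add' x y := by simp
  map_smul' a x := by simp
  left_inv x := rfl
  right_inv p := by
    ext
    · rfl
    · exact Subsingleton.elim _ _

theorem graded_orzech (r : ℕ) (M M' : ℕ → ℤ → Type u)
    [∀ s m, AddCommGroup (M s m)] [∀ s m, Module A (M s m)]
    [∀ s m, AddCommGroup (M' s m)] [∀ s m, Module A (M' s m)]
    (hM : ∀ s < r, ∀ m, Nonempty (M (s + 1) m ≃ₗ[A] (M s m × M s (m + 1))))
    (hM' : ∀ s < r, ∀ m, Nonempty (M' (s + 1) m ≃ₗ[A] (M' s m × M' s (m + 1))))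
    (hfin : ∀ m, Module.Finite A (M' 0 m))
    (hneg : ∀ m < 0, Subsingleton (M' 0 m))
    (h0 : ∀ m ≥ 0, Nonempty (M 0 m ≃ₗ[A] M' 0 m))
    (hr : ∀ m, Nonempty (M r m ≃ₗ[A] M' r m)) :
    ∀ m < 0, Subsingleton (M 0 m) := by
  -- finiteness of all `M' s m`
  have hfin' : ∀ s ≤ r, ∀ m, Module.Finite A (M' s m) := by
    intro s
    induction s with
    | zero => intro _ m; exact hfin m
    | succ s ih =>
      intro hs m
      obtain ⟨e⟩ := hM' s (by omega) m
      haveI := ih (by omega) m
      haveI := ih (by omega) (m + 1)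
      exact Module.Finite.equiv e.symm
  -- the main induction
  have key : ∀ k : ℕ, ∀ m : ℤ, -(k : ℤ) ≤ m → Nonempty (M 0 m ≃ₗ[A] M' 0 m) := by
    intro k
    induction k with
    | zero =>
      intro m hm
      exact h0 m (by simpa using hm)
    | succ k ih =>
      intro m hm
      by_cases hmk : -(k : ℤ) ≤ m
      · exact ih m hmk
      have hmt : m = -((k : ℤ) + 1) := by push_cast at hm; omega
      subst hmt
      -- Q(k)
      have hQ : ∀ s ≤ r, ∀ m : ℤ, -(k : ℤ) ≤ m → Nonempty (M s m ≃ₗ[A] M' s m) := by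
        intro s
        induction s with
        | zero => intro _ m hm; exact ih m hm
        | succ s ihs =>
          intro hs m hm
          obtain ⟨e⟩ := hM s (by omega) m
          obtain ⟨e'⟩ := hM' s (by omega) m
          obtain ⟨a⟩ := ihs (by omega) m hm
          obtain ⟨b⟩ := ihs (by omega) (m + 1) (by omega)
          exact ⟨e.trans ((LinearEquiv.prodCongr a b).trans e'.symm)⟩
      haveI hsub : Subsingleton (M' 0 (-((k : ℤ) + 1))) := hneg _ (by omega)
      have hR : ∀ s ≤ r, Nonempty (M s (-((k : ℤ) + 1)) ≃ₗ[A]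
          (M 0 (-((k : ℤ) + 1)) × M' s (-((k : ℤ) + 1)))) := by
        intro s
        induction s with
        | zero => intro _; exact ⟨prodSubsingletonEquiv _ _⟩
        | succ s ihs =>
          intro hs
          obtain ⟨e⟩ := hM s (by omega) (-((k : ℤ) + 1))
          obtain ⟨e'⟩ := hM' s (by omega) (-((k : ℤ) + 1))
          obtain ⟨a⟩ := ihs (by omega)
          obtain ⟨b⟩ := hQ s (by omega) (-((k : ℤ) + 1) + 1) (by omega)
          exact ⟨e.trans ((LinearEquiv.prodCongr a b).trans
            ((LinearEquiv.prodAssoc A _ _ _).trans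
              (LinearEquiv.prodCongr (LinearEquiv.refl A _) e'.symm)))⟩
      obtain ⟨φ⟩ := hR r le_rfl
      obtain ⟨ρ⟩ := hr (-((k : ℤ) + 1))
      haveI := hfin' r le_rfl (-((k : ℤ) + 1))
      haveI : Subsingleton (M 0 (-((k : ℤ) + 1))) :=
        subsingleton_of_prod_equiv (ρ.symm.trans φ)
      exact ⟨{ toFun := fun _ => 0, invFun := fun _ => 0, map_add' := by simp,
               map_smul' := by simp, left_inv := fun _ => Subsingleton.elim _ _,
               right_inv := fun _ => Subsingleton.elim _ _ }⟩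
  intro m hm
  obtain ⟨e⟩ := key m.natAbs m (by omega)
  haveI := hneg m hm
  exact e.toEquiv.subsingleton

end Groth.Agent.H8.KosIndep
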