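import Mathlib
import Groth.Prelude
import Groth.Agent.Lib.Helper8.RGCI.Main9254

set_option autoImplicit false
set_option linter.style.haveILetI false

universe u

open TensorProduct

namespace Groth.Agent.H8.KosIndep

variable (A : Type u) [CommRing A] (n : ℕ)

lemma ker_aeval_zero :
    RingHom.ker (MvPolynomial.aeval (R := A) (fun _ : Fin n => (0 : A))).toRingHom =
      Ideal.span (Set.range (MvPolynomial.X : Fin n → MvPolynomial (Fin n) A)) := by
  ext p
  rw [RingHom.mem_ker]
  have h1 : (MvPolynomial.aeval (R := A) (fun _ : Fin n => (0 : A))).toRingHom p =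
      MvPolynomial.constantCoeff p := by
    have := MvPolynomial.aeval_zero (S₁ := A) (σ := Fin n) p
    simp
  rw [h1]
  have h2 := MvPolynomial.mem_pow_idealOfVars_iff' (σ := Fin n) (R := A) 1 p
  rw [pow_one] at h2
  change _ ↔ p ∈ MvPolynomial.idealOfVars (Fin n) A
  rw [h2]
  constructor
  · intro h x hx
    have : x = 0 := by
      have : Finsupp.degree x = 0 := by omega
      exact (Finsupp.degree_eq_zero_iff x).mp this
    rw [this]
    exact h
  · intro h
    exact h 0 (by simp)

/-- `A[x]/(x) ≃ A`. -/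
noncomputable def quotVarsEquiv :
    (MvPolynomial (Fin n) A ⧸ Ideal.span (Set.range (MvPolynomial.X : Fin n → MvPolynomial (Fin n) A)))
      ≃ₐ[A] A :=
  (Ideal.quotientEquivAlgOfEq A (ker_aeval_zero A n).symm).trans
    (Ideal.quotientKerAlgEquivOfSurjective
      (f := MvPolynomial.aeval (R := A) (fun _ : Fin n => (0 : A)))
      (fun a => ⟨MvPolynomial.C a, by simp⟩))

theorem isRelGCI_vars : Synt.IsRelGCI A n n (fun i => (MvPolynomial.X i : MvPolynomial (Fin n) A)) := by
  intro p _
  refine ⟨le_rfl, ?_⟩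
  let e1 : p.asIdeal.Fiber (Synt.RelGCIRing A n n (fun i => (MvPolynomial.X i : MvPolynomial (Fin n) A)))
      ≃ₐ[p.asIdeal.ResidueField] p.asIdeal.ResidueField ⊗[A] A :=
    Algebra.TensorProduct.congr AlgEquiv.refl (quotVarsEquiv A n)
  let e2 : p.asIdeal.ResidueField ⊗[A] A ≃ₐ[p.asIdeal.ResidueField] p.asIdeal.ResidueField :=
    Algebra.TensorProduct.rid A p.asIdeal.ResidueField p.asIdeal.ResidueField
  rw [ringKrullDim_eq_of_ringEquiv (e1.trans e2).toRingEquiv, Nat.sub_self]
  exact ringKrullDim_eq_zero_of_field _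

theorem isKoszulRegularSeq_vars :
    LCI.IsKoszulRegularSeq (MvPolynomial (Fin n) A)
      (List.ofFn (fun i => (MvPolynomial.X i : MvPolynomial (Fin n) A))) :=
  Groth.Agent.H8.RGCI.isKoszulRegularSeq_of_isRelGCI _ (isRelGCI_vars A n)

end Groth.Agent.H8.KosIndep
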