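import Mathlib
import Groth.Prelude
import Groth.Agent.H4.KosBC
import Groth.Agent.H4.KosPerf
import Groth.Agent.H4.RB5
import Groth.Agent.H4.KI8
import Groth.Agent.H4.DComp10

set_option autoImplicit false
set_option linter.style.haveILetI false

universe u

open CategoryTheory Category Limits Pretriangulated

namespace Groth.Agent.H8.KosConcat

attribute [local instance] HasDerivedCategory.standard

open DRing DerivedCategory Groth.Agent.H4.FB2 Groth.Agent.H4.KS1

variable {P C : Type u} [CommRing P] [CommRing C] [Algebra P C]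

noncomputable instance : (Res P C).IsTriangulated :=
  inferInstanceAs
    ((ModuleCat.restrictScalars.{u} (algebraMap P C)).mapDerivedCategory.IsTriangulated)

/-- the restriction of the Koszul complex of the images is the iterated cone on `C[0]`. -/
theorem nonempty_kos_append_iso (l : List P) (e0 : kos l ≅ Dual.inD P C) : ∀ rs : List P,
    Nonempty (kos (rs ++ l) ≅ (Res P C).obj (kos (rs.map (algebraMap P C))))
  | [] => ⟨e0 ≪≫ (Groth.Agent.H4.RB5.resUnitIso P C).symm ≪≫
      (Res P C).mapIso (kosNilIso ≪≫ Groth.Agent.H4.KI8.inDUnitIso).symm⟩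
  | r :: rs => by
    obtain ⟨e⟩ := nonempty_kos_append_iso l e0 rs
    obtain ⟨v, w, hT⟩ := kos_triangle r (rs ++ l)
    obtain ⟨v', w', hT'⟩ := kos_triangle (algebraMap P C r) (rs.map (algebraMap P C))
    have hR := (Res P C).map_distinguished _ hT'
    refine ⟨Triangle.π₃.mapIso (isoTriangleOfIso₁₂ _ _ hT hR e e ?_)⟩
    change (r • 𝟙 (kos (rs ++ l))) ≫ e.hom =
      e.hom ≫ (Res P C).map (algebraMap P C r • 𝟙 (kos (rs.map (algebraMap P C))))
    rw [Res_map_smul_id, Linear.smul_comp, Linear.comp_smul, id_comp, comp_id]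

/-- **concatenation**: a Koszul-regular sequence `l` followed (on the outside) by elements whose
images in `C = P/(l)` form a Koszul-regular sequence is Koszul-regular. -/
theorem isKoszulRegularSeq_append (l rs : List P) (hl : LCI.IsKoszulRegularSeq P l)
    (hs : Function.Surjective (algebraMap P C))
    (hker : RingHom.ker (algebraMap P C) = Ideal.span {x | x ∈ l})
    (hrs : LCI.IsKoszulRegularSeq C (rs.map (algebraMap P C))) :
    LCI.IsKoszulRegularSeq P (rs ++ l) := by
  set I : Ideal P := Ideal.span {x | x ∈ l} with hI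
  have hle : I ≤ LinearMap.ker (Algebra.linearMap P C) := by
    intro x hx
    rw [← hker] at hx
    exact hx
  let q : (P ⧸ I) →ₗ[P] C := Submodule.liftQ I (Algebra.linearMap P C) hle
  have hq : Function.Bijective q := by
    constructor
    · rw [← LinearMap.ker_eq_bot]
      refine Submodule.ker_liftQ_eq_bot _ _ _ ?_
      intro x hx
      rw [← hker]
      exact hx
    · intro b
      obtain ⟨t, rfl⟩ := hs b
      exact ⟨Submodule.Quotient.mk t, rfl⟩
  let eq : (P ⧸ I) ≃ₗ[P] C := LinearEquiv.ofBijective q hq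
  obtain ⟨e0⟩ := Groth.Agent.H4.KosPerf.nonempty_koszul_iso l hl
  let e0' : kos l ≅ Dual.inD P C :=
    e0 ≪≫ (singleFunctor (ModuleCat.{u} P) 0).mapIso eq.toModuleIso
  obtain ⟨e⟩ := nonempty_kos_append_iso (C := C) l e0' rs
  intro i hi
  have h1 : IsZero ((homologyFunctor (ModuleCat.{u} C) i).obj (kos (rs.map (algebraMap P C)))) :=
    (hrs i hi).of_iso ((homologyFunctorFactors (ModuleCat.{u} C) i).app
      (Koszul.koszul C (rs.map (algebraMap P C))))
  have h2 : IsZero ((homologyFunctor (ModuleCat.{u} P) i).obj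
      ((Res P C).obj (kos (rs.map (algebraMap P C))))) :=
    ((ModuleCat.restrictScalars.{u} (algebraMap P C)).map_isZero h1).of_iso
      (Groth.Agent.H4.DComp.restrictHomologyIso (algebraMap P C) _ i)
  have h3 := h2.of_iso ((homologyFunctor (ModuleCat.{u} P) i).mapIso e)
  exact h3.of_iso ((homologyFunctorFactors (ModuleCat.{u} P) i).app
    (Koszul.koszul P (rs ++ l))).symm

/-- **cancellation**: if `l` and `rs ++ l` are Koszul-regular then the images of `rs` in
`C = P/(l)` form a Koszul-regular sequence. -/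
theorem isKoszulRegularSeq_map_of_append (l rs : List P) (hl : LCI.IsKoszulRegularSeq P l)
    (hs : Function.Surjective (algebraMap P C))
    (hker : RingHom.ker (algebraMap P C) = Ideal.span {x | x ∈ l})
    (hrs : LCI.IsKoszulRegularSeq P (rs ++ l)) :
    LCI.IsKoszulRegularSeq C (rs.map (algebraMap P C)) := by
  set I : Ideal P := Ideal.span {x | x ∈ l} with hI
  have hle : I ≤ LinearMap.ker (Algebra.linearMap P C) := by
    intro x hx
    rw [← hker] at hx
    exact hx
  let q : (P ⧸ I) →ₗ[P] C := Submodule.liftQ I (Algebra.linearMap P C) hle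
  have hq : Function.Bijective q := by
    constructor
    · rw [← LinearMap.ker_eq_bot]
      refine Submodule.ker_liftQ_eq_bot _ _ _ ?_
      intro x hx
      rw [← hker]
      exact hx
    · intro b
      obtain ⟨t, rfl⟩ := hs b
      exact ⟨Submodule.Quotient.mk t, rfl⟩
  let eq : (P ⧸ I) ≃ₗ[P] C := LinearEquiv.ofBijective q hq
  obtain ⟨e0⟩ := Groth.Agent.H4.KosPerf.nonempty_koszul_iso l hl
  let e0' : kos l ≅ Dual.inD P C :=
    e0 ≪≫ (singleFunctor (ModuleCat.{u} P) 0).mapIso eq.toModuleIso
  obtain ⟨e⟩ := nonempty_kos_append_iso (C := C) l e0' rs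
  intro i hi
  have h1 : IsZero ((homologyFunctor (ModuleCat.{u} P) i).obj (kos (rs ++ l))) :=
    (hrs i hi).of_iso ((homologyFunctorFactors (ModuleCat.{u} P) i).app
      (Koszul.koszul P (rs ++ l)))
  have h2 : IsZero ((homologyFunctor (ModuleCat.{u} P) i).obj
      ((Res P C).obj (kos (rs.map (algebraMap P C))))) :=
    h1.of_iso ((homologyFunctor (ModuleCat.{u} P) i).mapIso e.symm)
  have h3 : IsZero ((ModuleCat.restrictScalars.{u} (algebraMap P C)).obj
      ((homologyFunctor (ModuleCat.{u} C) i).obj (kos (rs.map (algebraMap P C))))) :=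
    h2.of_iso (Groth.Agent.H4.DComp.restrictHomologyIso (algebraMap P C) _ i).symm
  have h4 : IsZero ((homologyFunctor (ModuleCat.{u} C) i).obj (kos (rs.map (algebraMap P C)))) := by
    rw [ModuleCat.isZero_iff_subsingleton] at h3 ⊢
    exact h3
  exact h4.of_iso ((homologyFunctorFactors (ModuleCat.{u} C) i).app
    (Koszul.koszul C (rs.map (algebraMap P C)))).symm

end Groth.Agent.H8.KosConcat
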