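import Mathlib
import Groth.Prelude
import Groth.Agent.Lib.Helper8.Kos.Concat
import Groth.Agent.Lib.Helper8.Synt.Main9287
import Groth.Agent.Lib.Helper8.GCI.Smooth

set_option autoImplicit false
set_option linter.style.haveILetI false

universe u

open CategoryTheory

namespace Groth.Agent.H8.KosConcat

section lists
variable {T : Type*} [CommRing T]

lemma span_mem_eq_ofList (l : List T) : Ideal.span {x | x ∈ l} = Ideal.ofList l := rfl

lemma span_mem_append (l₁ l₂ : List T) :
    Ideal.span {x | x ∈ l₁ ++ l₂} = Ideal.span {x | x ∈ l₁} ⊔ Ideal.span {x | x ∈ l₂} := by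
  rw [← Ideal.span_union]
  congr 1
  ext x
  simp [List.mem_append]

lemma map_span_mem {T' : Type*} [CommRing T'] (φ : T →+* T') (l : List T) :
    (Ideal.span {x | x ∈ l}).map φ = Ideal.span {x | x ∈ l.map φ} := by
  rw [Ideal.map_span]
  congr 1
  ext x
  simp [List.mem_map]

end lists

variable {P C : Type u} [CommRing P] [CommRing C]

/-- the kernel of `P → C → C/(rs)` for `P → C` surjective with Koszul-regular kernel ideal and `rs`
Koszul-regular in `C` is a Koszul-regular ideal. -/
theorem isKoszulRegularIdeal_comap (f : P →+* C) (hf : Function.Surjective f)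
    (hK : LCI.IsKoszulRegularIdeal (RingHom.ker f)) (rs : List C)
    (hrs : LCI.IsKoszulRegularSeq C rs) :
    LCI.IsKoszulRegularIdeal ((Ideal.span {x | x ∈ rs}).comap f) := by
  classical
  -- lift `rs`
  have hlift : ∀ r : C, ∃ t : P, f t = r := hf
  choose σ hσ using hlift
  obtain ⟨ts, htsmap⟩ : ∃ ts : List P, ts.map f = rs := by
    refine ⟨rs.map σ, ?_⟩
    rw [List.map_map]
    conv_rhs => rw [← List.map_id rs]
    apply List.map_congr_left
    intro r _
    exact hσ r
  have hcomap : (Ideal.span {x | x ∈ rs}).comap f = Ideal.span {x | x ∈ ts} ⊔ RingHom.ker f := by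
    rw [← htsmap, ← map_span_mem, Ideal.comap_map_of_surjective f hf, RingHom.ker_eq_comap_bot]
  intro 𝔮 h𝔮
  have hle : RingHom.ker f ≤ 𝔮.asIdeal := by
    refine le_trans ?_ h𝔮
    rw [hcomap]
    exact le_sup_right
  obtain ⟨g, hg, l, hl, hgen⟩ := hK 𝔮 hle
  refine ⟨g, hg, ts.map (algebraMap P (Localization.Away g)) ++ l, ?_, ?_⟩
  · -- Koszul-regularity by concatenation
    letI : Algebra (Localization.Away g) (Localization.Away (f g)) :=
      (Localization.awayMap f g).toAlgebra
    have hsurj : Function.Surjective (algebraMap (Localization.Away g) (Localization.Away (f g))) := by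
      haveI : IsLocalization ((Submonoid.powers g).map f) (Localization.Away (f g)) := by
        rw [Submonoid.map_powers]; infer_instance
      exact IsLocalization.map_surjective_of_surjective (M := Submonoid.powers g)
        (S := Localization.Away g) (Q := Localization.Away (f g)) hf
    have hker : RingHom.ker (algebraMap (Localization.Away g) (Localization.Away (f g))) =
        Ideal.span {x | x ∈ l} := by
      rw [← hgen]
      exact IsLocalization.ker_map (M := Submonoid.powers g) (S := Localization.Away g)
        (Localization.Away (f g)) f (Submonoid.map_powers f g)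
    refine isKoszulRegularSeq_append (C := Localization.Away (f g)) l _ hl hsurj hker ?_
    have h1 : (ts.map (algebraMap P (Localization.Away g))).map
        (algebraMap (Localization.Away g) (Localization.Away (f g))) =
        rs.map (algebraMap C (Localization.Away (f g))) := by
      conv_rhs => rw [← htsmap]
      rw [List.map_map, List.map_map]
      apply List.map_congr_left
      intro t _
      simp only [Function.comp_apply]
      show Localization.awayMap f g (algebraMap P (Localization.Away g) t) =
        algebraMap C (Localization.Away (f g)) (f t)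
      simp [Localization.awayMap, IsLocalization.Away.map]
    rw [h1]
    exact Groth.Agent.H4.KosBC.isKoszulRegularSeq_map rs hrs
  · rw [hcomap, Ideal.map_sup, hgen, map_span_mem, span_mem_append]

section R2
variable (A C B : Type u) [CommRing A] [CommRing C] [CommRing B] [Algebra A C] [Algebra C B]
  [Algebra A B] [IsScalarTower A C B]

/-- a quotient of a local complete intersection algebra by a Koszul-regular sequence is a local
complete intersection algebra. -/
theorem isLCI_quot (hC : LCI.IsLCI A C) (hs : Function.Surjective (algebraMap C B)) (rs : List C)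
    (hrs : LCI.IsKoszulRegularSeq C rs)
    (hker : RingHom.ker (algebraMap C B) = Ideal.span {x | x ∈ rs}) : LCI.IsLCI A B := by
  obtain ⟨hft, n, f, hf, hK⟩ := hC
  let f' : MvPolynomial (Fin n) A →ₐ[A] B := (IsScalarTower.toAlgHom A C B).comp f
  have hf' : Function.Surjective f' := hs.comp hf
  refine ⟨Algebra.FiniteType.of_surjective f' hf', n, f', hf', ?_⟩
  have h1 : RingHom.ker f'.toRingHom = (Ideal.span {x | x ∈ rs}).comap f.toRingHom := by
    rw [← hker]
    ext x
    simp only [RingHom.mem_ker, Ideal.mem_comap]
    rfl
  rw [h1]
  exact isKoszulRegularIdeal_comap f.toRingHom hf hK rs hrs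

/-- smooth algebra modulo a Koszul-regular sequence with flat quotient is syntomic. -/
theorem isSyntomic_quot_of_smooth [Algebra.Smooth A C] [Module.Flat A B]
    (hs : Function.Surjective (algebraMap C B)) (rs : List C)
    (hrs : LCI.IsKoszulRegularSeq C rs)
    (hker : RingHom.ker (algebraMap C B) = Ideal.span {x | x ∈ rs}) : Synt.IsSyntomic A B := by
  have hC : Synt.IsSyntomic A C :=
    ⟨inferInstance, inferInstance, fun p =>
      Groth.Agent.H8.GCI.isLCIOver_of_smooth (p.asIdeal.Fiber C)⟩
  have hlci : LCI.IsLCI A C := Groth.Agent.H8.Synt.isLCI_of_isSyntomic A C hC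
  exact Groth.Agent.H8.Synt.isSyntomic_of_flat_isLCI A B (isLCI_quot A C B hlci hs rs hrs hker)

end R2

end Groth.Agent.H8.KosConcat
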