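import Mathlib
import Groth.Prelude
import Groth.Agent.H4.KF1
import Groth.Agent.H4.KProj7
import Groth.Agent.Lib.Helper8.Synt.Kos2
import Groth.Agent.Lib.Helper8.Kos.Vars

set_option autoImplicit false
set_option linter.style.haveILetI false

universe u

open CategoryTheory Category Limits Pretriangulated

namespace Groth.Agent.H8.KosIndep

attribute [local instance] HasDerivedCategory.standard

open DRing DTen DerivedCategory Groth.Agent.H4.FB2 Groth.Agent.H4.KS1 Groth.Agent.H4.KF1

variable {T A : Type u} [CommRing T] [CommRing A] [Algebra T A]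

theorem hasLBase_algebraMap : DTen.HasLBase (algebraMap T A) := by
  haveI : DRing.HasLBaseChange (algebraMap T A) := Groth.Agent.H4.KProj.hasLBaseChange _
  exact ⟨(Groth.Agent.H4.KProj.adjLBaseChange (algebraMap T A)).isRightAdjoint⟩

/-- two Koszul-regular sequences generating the same ideal have isomorphic Koszul complexes. -/
theorem nonempty_kos_iso_of_koszulRegular (L₁ L₂ : List T) (h₁ : LCI.IsKoszulRegularSeq T L₁)
    (h₂ : LCI.IsKoszulRegularSeq T L₂)
    (hI : Ideal.span {x | x ∈ L₁} = Ideal.span {x | x ∈ L₂}) :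
    Nonempty (kos L₁ ≅ kos L₂) := by
  obtain ⟨e₁⟩ := Groth.Agent.H4.KosPerf.nonempty_koszul_iso L₁ h₁
  obtain ⟨e₂⟩ := Groth.Agent.H4.KosPerf.nonempty_koszul_iso L₂ h₂
  let q : (T ⧸ Ideal.span {x | x ∈ L₁}) ≃ₗ[T] (T ⧸ Ideal.span {x | x ∈ L₂}) :=
    Submodule.quotEquivOfEq _ _ hI
  exact ⟨e₁ ≪≫ (singleFunctor (ModuleCat.{u} T) 0).mapIso q.toModuleIso ≪≫ e₂.symm⟩

/-- the **universal trick**: images of two Koszul-regular sequences generating the same ideal
have isomorphic Koszul complexes. -/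
theorem nonempty_kos_map_iso (L₁ L₂ : List T) (h₁ : LCI.IsKoszulRegularSeq T L₁)
    (h₂ : LCI.IsKoszulRegularSeq T L₂)
    (hI : Ideal.span {x | x ∈ L₁} = Ideal.span {x | x ∈ L₂}) :
    Nonempty (kos (L₁.map (algebraMap T A)) ≅ kos (L₂.map (algebraMap T A))) := by
  haveI := hasLBase_algebraMap (T := T) (A := A)
  obtain ⟨e⟩ := nonempty_kos_iso_of_koszulRegular L₁ L₂ h₁ h₂ hI
  obtain ⟨b₁⟩ := nonempty_LBase_kos_iso (T := T) (T' := A) L₁
  obtain ⟨b₂⟩ := nonempty_LBase_kos_iso (T := T) (T' := A) L₂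
  exact ⟨b₁.symm ≪≫ (LBase (algebraMap T A)).mapIso e ≪≫ b₂⟩

/-- an element of a Koszul-regular sequence acts as zero on the Koszul complex of the image. -/
theorem smul_id_kos_map_eq_zero (L : List T) (h : LCI.IsKoszulRegularSeq T L) (x : T)
    (hx : x ∈ L) : algebraMap T A x • 𝟙 (kos (L.map (algebraMap T A))) = 0 := by
  haveI := hasLBase_algebraMap (T := T) (A := A)
  obtain ⟨e⟩ := Groth.Agent.H4.KosPerf.nonempty_koszul_iso L h
  obtain ⟨b⟩ := nonempty_LBase_kos_iso (T := T) (T' := A) L
  have h0 : x • 𝟙 (Dual.inD T (T ⧸ Ideal.span {y | y ∈ L})) = 0 := by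
    have h1 : x • 𝟙 (ModuleCat.of T (T ⧸ Ideal.span {y | y ∈ L})) = 0 := by
      apply ModuleCat.hom_ext
      apply LinearMap.ext
      intro t
      change x • t = 0
      obtain ⟨t, rfl⟩ := Ideal.Quotient.mk_surjective t
      have h3 : x • (Ideal.Quotient.mk (Ideal.span {y | y ∈ L})) t =
          Ideal.Quotient.mk (Ideal.span {y | y ∈ L}) (x * t) := by
        rw [map_mul]; rfl
      rw [h3, Ideal.Quotient.eq_zero_iff_mem]
      exact Ideal.mul_mem_right _ _ (Ideal.subset_span hx)
    have h2 := congrArg (singleFunctor (ModuleCat.{u} T) 0).map h1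
    rw [Functor.map_smul, CategoryTheory.Functor.map_id, Functor.map_zero] at h2
    exact h2
  have h1 : x • 𝟙 (kos L) = 0 := by
    have : x • 𝟙 (kos L) = e.hom ≫ (x • 𝟙 _) ≫ e.inv := by
      rw [Linear.smul_comp, Linear.comp_smul, id_comp, e.hom_inv_id]
    rw [this, h0, zero_comp, comp_zero]
  have h2 : algebraMap T A x • 𝟙 ((LBase (algebraMap T A)).obj (kos L)) = 0 := by
    rw [← LBase_map_smul_id, h1, Functor.map_zero]
  have : algebraMap T A x • 𝟙 (kos (L.map (algebraMap T A))) =
      b.inv ≫ (algebraMap T A x • 𝟙 _) ≫ b.hom := by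
    rw [Linear.smul_comp, Linear.comp_smul, id_comp, b.inv_hom_id]
  rw [this, h2, zero_comp, comp_zero]

section universal

variable {B : Type u} [CommRing B]

/-- Koszul complexes of `v` and of `v ∘ π` are isomorphic. -/
theorem nonempty_kos_ofFn_perm_iso {N : ℕ} (v : Fin N → B) (π : Equiv.Perm (Fin N)) :
    Nonempty (kos (List.ofFn v) ≅ kos (List.ofFn (fun i => v (π i)))) := by
  letI : Algebra (MvPolynomial (Fin N) B) B := (MvPolynomial.aeval v).toRingHom.toAlgebra
  have hmap : ∀ i, algebraMap (MvPolynomial (Fin N) B) B (MvPolynomial.X i) = v i := fun i =>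
    MvPolynomial.aeval_X v i
  let L₁ : List (MvPolynomial (Fin N) B) := List.ofFn (fun i => MvPolynomial.X i)
  let L₂ : List (MvPolynomial (Fin N) B) := List.ofFn (fun i => MvPolynomial.X (π i))
  have h₁ : LCI.IsKoszulRegularSeq (MvPolynomial (Fin N) B) L₁ := isKoszulRegularSeq_vars B N
  have h₂ : LCI.IsKoszulRegularSeq (MvPolynomial (Fin N) B) L₂ := by
    have := Groth.Agent.H8.SyntLocal.isKoszulRegularSeq_map_ringEquiv
      (MvPolynomial.renameEquiv B π).toRingEquiv L₁ h₁
    have heq : L₁.map (MvPolynomial.renameEquiv B π).toRingEquiv = L₂ := by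
      simp only [L₁, L₂, List.map_ofFn]
      congr 1
      funext i
      simp
    rwa [heq] at this
  have hI : Ideal.span {x | x ∈ L₁} = Ideal.span {x | x ∈ L₂} := by
    congr 1
    ext x
    simp only [L₁, L₂, List.mem_ofFn, Set.mem_ofPred_eq]
    constructor
    · rintro ⟨i, rfl⟩
      exact ⟨π.symm i, by simp⟩
    · rintro ⟨i, rfl⟩
      exact ⟨π i, rfl⟩
  obtain ⟨e⟩ := nonempty_kos_map_iso (A := B) L₁ L₂ h₁ h₂ hI
  have e₁ : L₁.map (algebraMap (MvPolynomial (Fin N) B) B) = List.ofFn v := by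
    simp only [L₁, List.map_ofFn]
    congr 1
    funext i
    exact hmap i
  have e₂ : L₂.map (algebraMap (MvPolynomial (Fin N) B) B) = List.ofFn (fun i => v (π i)) := by
    simp only [L₂, List.map_ofFn]
    congr 1
    funext i
    exact hmap (π i)
  rw [e₁, e₂] at e
  exact ⟨e⟩

/-- elements of the list act as zero on the Koszul complex (in the derived category). -/
theorem smul_id_kos_eq_zero_of_mem (L : List B) (x : B) (hx : x ∈ L) : x • 𝟙 (kos L) = 0 := by
  letI : Algebra (MvPolynomial (Fin L.length) B) B :=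
    (MvPolynomial.aeval L.get).toRingHom.toAlgebra
  have hmap : ∀ i, algebraMap (MvPolynomial (Fin L.length) B) B (MvPolynomial.X i) = L.get i :=
    fun i => MvPolynomial.aeval_X L.get i
  let L₁ : List (MvPolynomial (Fin L.length) B) := List.ofFn (fun i => MvPolynomial.X i)
  have e₁ : L₁.map (algebraMap (MvPolynomial (Fin L.length) B) B) = L := by
    simp only [L₁, List.map_ofFn]
    conv_rhs => rw [← List.ofFn_get L]
    congr 1
    funext i
    exact hmap i
  obtain ⟨i, rfl⟩ := List.get_of_mem hx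
  have := smul_id_kos_map_eq_zero (A := B) L₁ (isKoszulRegularSeq_vars B L.length)
    (MvPolynomial.X i) (by simp [L₁, List.mem_ofFn])
  rw [hmap i, e₁] at this
  exact this

end universal

end Groth.Agent.H8.KosIndep
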