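import Mathlib
import Groth.Prelude
import Groth.Agent.Lib.Helper8.Kos.Univ

set_option autoImplicit false
set_option linter.style.haveILetI false

universe u

open CategoryTheory Category Limits Pretriangulated

namespace Groth.Agent.H8.KosIndep

attribute [local instance] HasDerivedCategory.standard

open DRing DTen DerivedCategory Groth.Agent.H4.FB2 Groth.Agent.H4.KS1 Groth.Agent.H4.KF1

variable {B : Type u} [CommRing B]

theorem nonempty_kos_cons_iso (x : B) {l l' : List B} (e : kos l ≅ kos l') :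
    Nonempty (kos (x :: l) ≅ kos (x :: l')) := by
  obtain ⟨v, w, hT⟩ := kos_triangle x l
  obtain ⟨v', w', hT'⟩ := kos_triangle x l'
  refine ⟨Triangle.π₃.mapIso (isoTriangleOfIso₁₂ _ _ hT hT' e e ?_)⟩
  change (x • 𝟙 (kos l)) ≫ e.hom = e.hom ≫ (x • 𝟙 (kos l'))
  rw [Linear.smul_comp, Linear.comp_smul, id_comp, comp_id]

theorem nonempty_kos_swap_iso (a b : B) (l : List B) :
    Nonempty (kos (a :: b :: l) ≅ kos (b :: a :: l)) := by
  obtain ⟨e⟩ := nonempty_kos_ofFn_perm_iso (a :: b :: l).get (Equiv.swap 0 1)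
  have h1 : List.ofFn (a :: b :: l).get = a :: b :: l := List.ofFn_get _
  have h2 : List.ofFn (fun i => (a :: b :: l).get (Equiv.swap 0 1 i)) = b :: a :: l := by
    apply List.ext_get
    · simp
    · intro n hn hn'
      simp only [List.get_ofFn]
      rcases n with _ | _ | n
      · simp [Equiv.swap_apply_left]
      · simp [Equiv.swap_apply_right]
      · have hne0 : (Fin.cast (by simp) (⟨n + 1 + 1, hn⟩ : Fin _) : Fin (a :: b :: l).length) ≠ 0 := by
          intro h
          have := congrArg Fin.val h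
          simp at this
        have hne1 : (Fin.cast (by simp) (⟨n + 1 + 1, hn⟩ : Fin _) : Fin (a :: b :: l).length) ≠ 1 := by
          intro h
          have := congrArg Fin.val h
          simp at this
        rw [Equiv.swap_apply_of_ne_of_ne hne0 hne1]
        simp
  rw [h1, h2] at e
  exact ⟨e⟩

/-- **permutation invariance** of the Koszul complex (in the derived category). -/
theorem nonempty_kos_iso_of_perm {l l' : List B} (h : l.Perm l') : Nonempty (kos l ≅ kos l') := by
  induction h with
  | nil => exact ⟨Iso.refl _⟩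
  | cons x _ ih =>
    obtain ⟨e⟩ := ih
    exact nonempty_kos_cons_iso x e
  | swap x y l => exact nonempty_kos_swap_iso y x l
  | trans _ _ ih₁ ih₂ =>
    obtain ⟨e₁⟩ := ih₁
    obtain ⟨e₂⟩ := ih₂
    exact ⟨e₁ ≪≫ e₂⟩

theorem isKoszulRegularSeq_of_perm {l l' : List B} (h : l.Perm l')
    (hl : LCI.IsKoszulRegularSeq B l) : LCI.IsKoszulRegularSeq B l' := by
  obtain ⟨e⟩ := nonempty_kos_iso_of_perm h
  intro i hi
  have h1 : IsZero ((homologyFunctor (ModuleCat.{u} B) i).obj (kos l)) :=
    (hl i hi).of_iso ((homologyFunctorFactors (ModuleCat.{u} B) i).app (Koszul.koszul B l))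
  have h2 := h1.of_iso ((homologyFunctor (ModuleCat.{u} B) i).mapIso e.symm)
  exact h2.of_iso ((homologyFunctorFactors (ModuleCat.{u} B) i).app (Koszul.koszul B l')).symm

/-- every element of the ideal generated by `L` acts as zero on `kos L`. -/
theorem smul_id_kos_eq_zero (L : List B) (x : B) (hx : x ∈ Ideal.ofList L) :
    x • 𝟙 (kos L) = 0 := by
  refine Submodule.span_induction (p := fun x _ => x • 𝟙 (kos L) = 0) ?_ ?_ ?_ ?_ hx
  · intro y hy
    exact smul_id_kos_eq_zero_of_mem L y hy
  · exact zero_smul _ _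
  · intro y z _ _ hy hz
    rw [add_smul, hy, hz, add_zero]
  · intro a y _ hy
    rw [smul_eq_mul, mul_smul, hy, smul_zero]

/-- if `x ∈ (L)` the cone splits. -/
theorem nonempty_kos_cons_iso_biprod (L : List B) (x : B) (hx : x ∈ Ideal.ofList L) :
    Nonempty (kos (x :: L) ≅ kos L ⊞ (kos L)⟦(1 : ℤ)⟧) := by
  obtain ⟨v, w, hT⟩ := kos_triangle x L
  have h0 := smul_id_kos_eq_zero L x hx
  have hrot := rot_of_distTriang _ hT
  have hz : (Triangle.mk (x • 𝟙 (kos L)) v w).rotate.mor₃ = 0 := by
    change -(shiftFunctor (Dual.D B) (1 : ℤ)).map (x • 𝟙 (kos L)) = 0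
    rw [h0, Functor.map_zero, neg_zero]
  obtain ⟨e, -, -⟩ := exists_iso_binaryBiproduct_of_distTriang _ hrot hz
  exact ⟨e⟩

end Groth.Agent.H8.KosIndep
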