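import Mathlib
import Groth.Prelude
import Groth.Agent.Lib.Helper8.Kos.Perm
import Groth.Agent.Lib.Helper8.Kos.Graded
import Groth.Agent.H4.KosLow

set_option autoImplicit false
set_option linter.style.haveILetI false

universe u

open CategoryTheory Category Limits Pretriangulated

namespace Groth.Agent.H8.KosIndep

attribute [local instance] HasDerivedCategory.standard

open DRing DTen DerivedCategory Groth.Agent.H4.FB2 Groth.Agent.H4.KS1 Groth.Agent.H4.KF1

variable {B : Type u} [CommRing B]

/-- the `m`-th cohomology module of the Koszul complex. -/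
noncomputable abbrev HK (l : List B) (m : ℤ) : ModuleCat.{u} B :=
  (homologyFunctor (ModuleCat.{u} B) m).obj (kos l)

theorem isKoszulRegularSeq_iff_HK (l : List B) :
    LCI.IsKoszulRegularSeq B l ↔ ∀ m : ℤ, m ≠ 0 → IsZero (HK l m) := by
  constructor
  · intro h m hm
    exact (h m hm).of_iso ((homologyFunctorFactors (ModuleCat.{u} B) m).app (Koszul.koszul B l))
  · intro h m hm
    exact (h m hm).of_iso ((homologyFunctorFactors (ModuleCat.{u} B) m).app
      (Koszul.koszul B l)).symm

theorem isZero_HK_of_pos (l : List B) (m : ℤ) (hm : 0 < m) : IsZero (HK l m) := by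
  have h1 : IsZero ((Koszul.koszul B l).X m) := (Groth.Agent.H4.KosLow.lowData_koszul l).1 m hm
  have h2 : IsZero ((Koszul.koszul B l).homology m) :=
    HomologicalComplex.ExactAt.isZero_homology (HomologicalComplex.ExactAt.of_isZero h1)
  exact h2.of_iso ((homologyFunctorFactors (ModuleCat.{u} B) m).app (Koszul.koszul B l))

theorem nonempty_HK_zero_equiv (l : List B) :
    Nonempty (HK l 0 ≃ₗ[B] (B ⧸ Ideal.span {x | x ∈ l})) := by
  obtain ⟨e⟩ := Groth.Agent.H4.KosPerf.nonempty_koszul_homology_zero_iso l
  exact ⟨(((homologyFunctorFactors (ModuleCat.{u} B) 0).app (Koszul.koszul B l)) ≪≫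
    e).toLinearEquiv⟩

/-- cohomology of the split cone. -/
theorem nonempty_HK_cons_equiv (L : List B) (x : B) (hx : x ∈ Ideal.ofList L) (m : ℤ) :
    Nonempty (HK (x :: L) m ≃ₗ[B] (HK L m × HK L (m + 1))) := by
  obtain ⟨e⟩ := nonempty_kos_cons_iso_biprod L x hx
  haveI : PreservesBinaryBiproducts (homologyFunctor (ModuleCat.{u} B) m) :=
    preservesBinaryBiproducts_of_preservesBiproducts _
  let i1 := (homologyFunctor (ModuleCat.{u} B) m).mapIso e
  let i2 := (homologyFunctor (ModuleCat.{u} B) m).mapBiprod (kos L) ((kos L)⟦(1 : ℤ)⟧)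
  let i3 : (homologyFunctor (ModuleCat.{u} B) m).obj ((kos L)⟦(1 : ℤ)⟧) ≅ HK L (m + 1) :=
    ((homologyFunctor (ModuleCat.{u} B) 0).shiftIso 1 m (m + 1) (by omega)).app (kos L)
  let i4 := biprod.mapIso (Iso.refl (HK L m)) i3
  let i5 := ModuleCat.biprodIsoProd (HK L m) (HK L (m + 1))
  exact ⟨(i1 ≪≫ i2 ≪≫ i4 ≪≫ i5).toLinearEquiv⟩

theorem mem_ofList_append_right (l₁ l₂ : List B) {x : B} (hx : x ∈ Ideal.ofList l₂) :
    x ∈ Ideal.ofList (l₁ ++ l₂) := by
  rw [Ideal.ofList_append]
  exact Ideal.mem_sup_right hx

theorem finite_HK_of_isKoszulRegularSeq (f : List B) (hf : LCI.IsKoszulRegularSeq B f) (m : ℤ) :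
    Module.Finite B (HK f m) := by
  by_cases hm : m = 0
  · subst hm
    obtain ⟨e⟩ := nonempty_HK_zero_equiv f
    exact Module.Finite.equiv e.symm
  · have hz := (isKoszulRegularSeq_iff_HK f).mp hf m hm
    haveI := ModuleCat.subsingleton_of_isZero hz
    infer_instance

/-- step of the chain: dropping one element less. -/
theorem nonempty_HK_drop_equiv (f g : List B) (hI : Ideal.ofList f ≤ Ideal.ofList g) (s : ℕ)
    (hs : s < f.length) (m : ℤ) :
    Nonempty (HK (f.drop (f.length - (s + 1)) ++ g) m ≃ₗ[B]
      (HK (f.drop (f.length - s) ++ g) m × HK (f.drop (f.length - s) ++ g) (m + 1))) := by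
  have hn : f.length - (s + 1) < f.length := by omega
  have hd : f.drop (f.length - (s + 1)) = f[f.length - (s + 1)] :: f.drop (f.length - s) := by
    rw [List.drop_eq_getElem_cons hn]
    congr 2
    omega
  have hx : f[f.length - (s + 1)] ∈ Ideal.ofList (f.drop (f.length - s) ++ g) :=
    mem_ofList_append_right _ _ (hI (Ideal.subset_span (List.getElem_mem hn)))
  rw [hd, List.cons_append]
  exact nonempty_HK_cons_equiv _ _ hx m

/-- **independence of generators**: a sequence of the same length generating the same ideal as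
a Koszul-regular sequence is Koszul-regular. -/
theorem isKoszulRegularSeq_of_ofList_eq (f g : List B) (hlen : f.length = g.length)
    (hI : Ideal.ofList f = Ideal.ofList g) (hf : LCI.IsKoszulRegularSeq B f) :
    LCI.IsKoszulRegularSeq B g := by
  have hdf : ∀ l : List B, f.drop (f.length - 0) ++ l = l := by
    intro l
    rw [Nat.sub_zero, List.drop_length, List.nil_append]
  have hdg : ∀ l : List B, g.drop (f.length - 0) ++ l = l := by
    intro l
    rw [Nat.sub_zero, hlen, List.drop_length, List.nil_append]
  have hsub := graded_orzech (A := B) f.length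
    (M := fun s m => HK (f.drop (f.length - s) ++ g) m)
    (M' := fun s m => HK (g.drop (f.length - s) ++ f) m)
    (fun s hs m => nonempty_HK_drop_equiv f g hI.le s hs m)
    (fun s hs m => by
      have := nonempty_HK_drop_equiv g f hI.ge s (hlen ▸ hs) m
      rw [← hlen] at this
      exact this)
    (fun m => by
      change Module.Finite B (HK (g.drop (f.length - 0) ++ f) m)
      rw [hdg]
      exact finite_HK_of_isKoszulRegularSeq f hf m)
    (fun m hm => by
      change Subsingleton (HK (g.drop (f.length - 0) ++ f) m)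
      rw [hdg]
      exact ModuleCat.subsingleton_of_isZero ((isKoszulRegularSeq_iff_HK f).mp hf m hm.ne))
    (fun m hm => by
      change Nonempty (HK (f.drop (f.length - 0) ++ g) m ≃ₗ[B] HK (g.drop (f.length - 0) ++ f) m)
      rw [hdf, hdg]
      rcases hm.lt_or_eq with hpos | rfl
      · haveI := ModuleCat.subsingleton_of_isZero (isZero_HK_of_pos g m hpos)
        haveI := ModuleCat.subsingleton_of_isZero (isZero_HK_of_pos f m hpos)
        exact ⟨{ toFun := fun _ => 0, invFun := fun _ => 0, map_add' := by simp,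
                 map_smul' := by simp, left_inv := fun _ => Subsingleton.elim _ _,
                 right_inv := fun _ => Subsingleton.elim _ _ }⟩
      · obtain ⟨e₁⟩ := nonempty_HK_zero_equiv g
        obtain ⟨e₂⟩ := nonempty_HK_zero_equiv f
        have hI' : Ideal.span {x | x ∈ g} = Ideal.span {x | x ∈ f} := hI.symm
        exact ⟨e₁.trans ((Submodule.quotEquivOfEq _ _ hI').trans e₂.symm)⟩)
    (fun m => by
      change Nonempty (HK (f.drop (f.length - f.length) ++ g) m ≃ₗ[B]
        HK (g.drop (f.length - f.length) ++ f) m)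
      rw [Nat.sub_self, List.drop_zero, List.drop_zero]
      obtain ⟨e⟩ := nonempty_kos_iso_of_perm (List.perm_append_comm (l₁ := f) (l₂ := g))
      exact ⟨((homologyFunctor (ModuleCat.{u} B) m).mapIso e).toLinearEquiv⟩)
  rw [isKoszulRegularSeq_iff_HK]
  intro m hm
  rcases lt_or_gt_of_ne hm with hneg | hpos
  · have := hsub m hneg
    change Subsingleton (HK (f.drop (f.length - 0) ++ g) m) at this
    rw [hdf] at this
    exact ModuleCat.isZero_of_subsingleton _
  · exact isZero_HK_of_pos g m hpos

end Groth.Agent.H8.KosIndep
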