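import Mathlib
import Groth.Prelude
import Groth.Agent.Lib.Helper8.Kos.Indep
import Groth.Agent.Lib.Helper8.Kos.LCIQuot

set_option autoImplicit false
set_option linter.style.haveILetI false

universe u

namespace Groth.Agent.H8.KosIndep

open Groth.Agent.H8.KosConcat Groth.Agent.H8.SyntLocal

variable {A : Type u} [CommRing A]

/-- flexible form of the local condition: any model of the localization may be used. -/
theorem exists_away_of_model (I : Ideal A) (g : A) (A' : Type u) [CommRing A'] [Algebra A A']
    [IsLocalization.Away g A'] (l : List A') (hl : LCI.IsKoszulRegularSeq A' l)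
    (hgen : I.map (algebraMap A A') = Ideal.span {x | x ∈ l}) :
    ∃ l : List (Localization.Away g), LCI.IsKoszulRegularSeq (Localization.Away g) l ∧
      I.map (algebraMap A (Localization.Away g)) = Ideal.span {x | x ∈ l} := by
  let e : A' ≃ₐ[A] Localization.Away g :=
    IsLocalization.algEquiv (Submonoid.powers g) A' (Localization.Away g)
  refine ⟨l.map e.toRingEquiv, isKoszulRegularSeq_map_ringEquiv e.toRingEquiv l hl, ?_⟩
  have h1 : algebraMap A (Localization.Away g) =
      (e.toRingEquiv : A' →+* Localization.Away g).comp (algebraMap A A') := by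
    ext a
    simp
  rw [h1, ← Ideal.map_map, hgen, map_span_mem]
  rfl

theorem isKoszulRegularIdeal_of_models (I : Ideal A)
    (h : ∀ 𝔭 : PrimeSpectrum A, I ≤ 𝔭.asIdeal → ∃ g : A, g ∉ 𝔭.asIdeal ∧
      ∃ (A' : Type u) (_ : CommRing A') (_ : Algebra A A') (_ : IsLocalization.Away g A')
        (l : List A'), LCI.IsKoszulRegularSeq A' l ∧
          I.map (algebraMap A A') = Ideal.span {x | x ∈ l}) :
    LCI.IsKoszulRegularIdeal I := by
  intro 𝔭 h𝔭
  obtain ⟨g, hg, A', _, _, _, l, hl, hgen⟩ := h 𝔭 h𝔭
  exact ⟨g, hg, exists_away_of_model I g A' l hl hgen⟩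

/-- transport of Koszul-regular ideals along ring isomorphisms. -/
theorem isKoszulRegularIdeal_map_ringEquiv {A' : Type u} [CommRing A'] (e : A ≃+* A')
    (I : Ideal A) (hI : LCI.IsKoszulRegularIdeal I) :
    LCI.IsKoszulRegularIdeal (I.map (e : A →+* A')) := by
  apply isKoszulRegularIdeal_of_models
  intro 𝔭' h𝔭'
  let 𝔭 : PrimeSpectrum A := ⟨𝔭'.asIdeal.comap (e : A →+* A'), inferInstance⟩
  have h𝔭 : I ≤ 𝔭.asIdeal := by
    intro x hx
    exact h𝔭' (Ideal.mem_map_of_mem _ hx)
  obtain ⟨g, hg, l, hl, hgen⟩ := hI 𝔭 h𝔭
  refine ⟨e g, hg, Localization.Away g, inferInstance,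
    ((algebraMap A (Localization.Away g)).comp e.symm.toRingHom).toAlgebra, ?_, l, hl, ?_⟩
  · have := IsLocalization.isLocalization_of_base_ringEquiv (Submonoid.powers g)
      (Localization.Away g) e
    rw [Submonoid.map_powers] at this
    exact this
  · letI : Algebra A' (Localization.Away g) :=
      ((algebraMap A (Localization.Away g)).comp e.symm.toRingHom).toAlgebra
    rw [← hgen, Ideal.map_map]
    congr 1
    ext a
    simp [RingHom.algebraMap_toAlgebra]

/-- **concatenation for ideals**: the preimage of a Koszul-regular ideal under a surjection whose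
kernel is generated by a Koszul-regular sequence is a Koszul-regular ideal. -/
theorem isKoszulRegularIdeal_comap_of_seq {P C : Type u} [CommRing P] [CommRing C] (f : P →+* C)
    (hf : Function.Surjective f) (l₁ : List P) (hl₁ : LCI.IsKoszulRegularSeq P l₁)
    (hker : RingHom.ker f = Ideal.span {x | x ∈ l₁}) (I : Ideal C)
    (hI : LCI.IsKoszulRegularIdeal I) : LCI.IsKoszulRegularIdeal (I.comap f) := by
  classical
  intro 𝔮 h𝔮
  have hkerle : RingHom.ker f ≤ I.comap f := by
    rw [RingHom.ker_eq_comap_bot]
    exact Ideal.comap_mono bot_le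
  have hle : RingHom.ker f ≤ 𝔮.asIdeal := hkerle.trans h𝔮
  haveI : (𝔮.asIdeal.map f).IsPrime := Ideal.map_isPrime_of_surjective hf hle
  have hcm : (𝔮.asIdeal.map f).comap f = 𝔮.asIdeal := by
    rw [Ideal.comap_map_of_surjective f hf, ← RingHom.ker_eq_comap_bot]
    exact sup_eq_left.mpr hle
  have hI𝔮 : I ≤ 𝔮.asIdeal.map f := by
    rw [← Ideal.map_comap_of_surjective f hf I]
    exact Ideal.map_mono h𝔮
  obtain ⟨g', hg', l₂, hl₂, hgen⟩ := hI ⟨𝔮.asIdeal.map f, inferInstance⟩ hI𝔮
  obtain ⟨g, rfl⟩ := hf g'
  have hg : g ∉ 𝔮.asIdeal := fun h => hg' (Ideal.mem_map_of_mem f h)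
  letI : Algebra (Localization.Away g) (Localization.Away (f g)) :=
    (Localization.awayMap f g).toAlgebra
  have hsurj : Function.Surjective
      (algebraMap (Localization.Away g) (Localization.Away (f g))) := by
    haveI : IsLocalization ((Submonoid.powers g).map f) (Localization.Away (f g)) := by
      rw [Submonoid.map_powers]; infer_instance
    exact IsLocalization.map_surjective_of_surjective (M := Submonoid.powers g)
      (S := Localization.Away g) (Q := Localization.Away (f g)) hf
  have hker' : RingHom.ker (algebraMap (Localization.Away g) (Localization.Away (f g))) =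
      Ideal.span {x | x ∈ l₁.map (algebraMap P (Localization.Away g))} := by
    rw [← map_span_mem, ← hker]
    exact IsLocalization.ker_map (M := Submonoid.powers g) (S := Localization.Away g)
      (Localization.Away (f g)) f (Submonoid.map_powers f g)
  have hsq : (algebraMap (Localization.Away g) (Localization.Away (f g))).comp
      (algebraMap P (Localization.Away g)) =
      (algebraMap C (Localization.Away (f g))).comp f := by
    ext t
    show Localization.awayMap f g (algebraMap P (Localization.Away g) t) =
      algebraMap C (Localization.Away (f g)) (f t)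
    simp [Localization.awayMap, IsLocalization.Away.map]
  choose σ hσ using hsurj
  obtain ⟨ts, htsmap⟩ : ∃ ts : List (Localization.Away g),
      ts.map (algebraMap (Localization.Away g) (Localization.Away (f g))) = l₂ := by
    refine ⟨l₂.map σ, ?_⟩
    rw [List.map_map]
    conv_rhs => rw [← List.map_id l₂]
    apply List.map_congr_left
    intro r _
    exact hσ r
  have hsurj : Function.Surjective
      (algebraMap (Localization.Away g) (Localization.Away (f g))) := fun b => ⟨σ b, hσ b⟩
  refine ⟨g, hg, ts ++ l₁.map (algebraMap P (Localization.Away g)), ?_, ?_⟩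
  · refine isKoszulRegularSeq_append (C := Localization.Away (f g)) _ ts
      (Groth.Agent.H4.KosBC.isKoszulRegularSeq_map l₁ hl₁) hsurj hker' ?_
    rw [htsmap]
    exact hl₂
  · set 𝔞 : Ideal (Localization.Away g) := (I.comap f).map (algebraMap P (Localization.Away g))
      with h𝔞
    have h1 : 𝔞.map (algebraMap (Localization.Away g) (Localization.Away (f g))) =
        Ideal.span {x | x ∈ l₂} := by
      rw [h𝔞, Ideal.map_map, hsq, ← Ideal.map_map, Ideal.map_comap_of_surjective f hf, hgen]
    have h2 : RingHom.ker (algebraMap (Localization.Away g) (Localization.Away (f g))) ≤ 𝔞 := by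
      have : RingHom.ker (algebraMap (Localization.Away g) (Localization.Away (f g))) =
          (RingHom.ker f).map (algebraMap P (Localization.Away g)) :=
        IsLocalization.ker_map (M := Submonoid.powers g) (S := Localization.Away g)
          (Localization.Away (f g)) f (Submonoid.map_powers f g)
      rw [this]
      exact Ideal.map_mono hkerle
    have h3 : 𝔞 = (𝔞.map (algebraMap (Localization.Away g) (Localization.Away (f g)))).comap
        (algebraMap (Localization.Away g) (Localization.Away (f g))) := by
      rw [Ideal.comap_map_of_surjective _ hsurj, ← RingHom.ker_eq_comap_bot]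
      exact (sup_eq_left.mpr h2).symm
    rw [h3, h1, ← htsmap, ← map_span_mem, Ideal.comap_map_of_surjective _ hsurj,
      ← RingHom.ker_eq_comap_bot, hker', span_mem_append]

end Groth.Agent.H8.KosIndep
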