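import Mathlib
import Groth.Prelude
import Groth.Agent.Lib.Helper8.Kos.KRIdeal

set_option autoImplicit false
set_option linter.style.haveILetI false

universe u

namespace Groth.Agent.H8.KosIndep

open Groth.Agent.H8.KosConcat Groth.Agent.H8.SyntLocal

variable {S : Type u} [CommRing S]

theorem perm_getElem_cons_eraseIdx (l : List S) (j : ℕ) (hj : j < l.length) :
    l.Perm (l[j] :: l.eraseIdx j) := by
  have h1 : l = l.take j ++ l[j] :: l.drop (j + 1) := by
    conv_lhs => rw [← List.take_append_drop j l, List.drop_eq_getElem_cons hj]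
  rw [List.eraseIdx_eq_take_drop_succ]
  conv_lhs => rw [h1]
  exact List.perm_middle

/-- **one-step exchange**: replace one element of a Koszul-regular sequence by a combination in
which it appears with unit coefficient. -/
theorem isKoszulRegularSeq_exchange (l : List S) (j : ℕ) (hj : j < l.length) (z u w : S)
    (hl : LCI.IsKoszulRegularSeq S l) (hu : IsUnit u) (hw : w ∈ Ideal.ofList (l.eraseIdx j))
    (hz : z = u * l[j] + w) :
    LCI.IsKoszulRegularSeq S (l.eraseIdx j ++ [z]) ∧
      Ideal.ofList (l.eraseIdx j ++ [z]) = Ideal.ofList l := by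
  have hperm := perm_getElem_cons_eraseIdx l j hj
  have hl' : LCI.IsKoszulRegularSeq S (l[j] :: l.eraseIdx j) := isKoszulRegularSeq_of_perm hperm hl
  have hspan : Ideal.ofList (z :: l.eraseIdx j) = Ideal.ofList (l[j] :: l.eraseIdx j) := by
    rw [Ideal.ofList_cons, Ideal.ofList_cons]
    apply le_antisymm
    · rw [sup_le_iff]
      refine ⟨?_, le_sup_right⟩
      rw [Ideal.span_singleton_le_iff_mem, hz]
      exact Ideal.add_mem _ (Ideal.mul_mem_left _ _ (Ideal.mem_sup_left
        (Ideal.mem_span_singleton_self _))) (Ideal.mem_sup_right hw)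
    · rw [sup_le_iff]
      refine ⟨?_, le_sup_right⟩
      rw [Ideal.span_singleton_le_iff_mem]
      obtain ⟨v, rfl⟩ := hu
      have : l[j] = (↑v⁻¹ : S) * z - ↑v⁻¹ * w := by
        rw [hz]; ring_nf; simp
      rw [this]
      exact Ideal.sub_mem _ (Ideal.mul_mem_left _ _ (Ideal.mem_sup_left
        (Ideal.mem_span_singleton_self _))) (Ideal.mul_mem_left _ _ (Ideal.mem_sup_right hw))
  have hlen : (l[j] :: l.eraseIdx j).length = (z :: l.eraseIdx j).length := by simp
  have hKR : LCI.IsKoszulRegularSeq S (z :: l.eraseIdx j) :=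
    isKoszulRegularSeq_of_ofList_eq _ _ hlen hspan.symm hl'
  have hperm2 : (z :: l.eraseIdx j).Perm (l.eraseIdx j ++ [z]) :=
    (List.perm_append_singleton z (l.eraseIdx j)).symm
  refine ⟨isKoszulRegularSeq_of_perm hperm2 hKR, ?_⟩
  have h3 : Ideal.ofList (l.eraseIdx j ++ [z]) = Ideal.ofList (z :: l.eraseIdx j) := by
    unfold Ideal.ofList
    congr 1
    ext x
    exact hperm2.symm.mem_iff
  have h4 : Ideal.ofList l = Ideal.ofList (l[j] :: l.eraseIdx j) := by
    unfold Ideal.ofList
    congr 1
    ext x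
    exact hperm.mem_iff
  rw [h3, hspan, h4]

end Groth.Agent.H8.KosIndep
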