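import Mathlib
import Groth.Prelude
import Groth.Agent.Lib.Helper8.Kos.Exch
import Groth.Agent.S15821

set_option autoImplicit false
set_option linter.style.haveILetI false

universe u

namespace Groth.Agent.H8.KosIndep

open Groth.Agent.H8.KosConcat Groth.Agent.H8.SyntLocal

lemma dualNumber_mul_eq_zero {κ : Type u} [CommRing κ] (a b : DualNumber κ)
    (ha : TrivSqZeroExt.fst a = 0) (hb : TrivSqZeroExt.fst b = 0) : a * b = 0 := by
  apply TrivSqZeroExt.ext
  · rw [TrivSqZeroExt.fst_mul, ha, zero_mul, TrivSqZeroExt.fst_zero]
  · rw [DualNumber.snd_mul, ha, hb, zero_mul, mul_zero, add_zero, TrivSqZeroExt.snd_zero]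

theorem isKoszulRegularSeq_singleton_X (Q : Type u) [CommRing Q] :
    LCI.IsKoszulRegularSeq (Polynomial Q) [Polynomial.X] := by
  refine (Groth.Agent.S15821.result (Polynomial Q) [Polynomial.X] ?_).1
  rw [RingTheory.Sequence.isWeaklyRegular_cons_iff]
  refine ⟨?_, RingTheory.Sequence.IsWeaklyRegular.nil _ _⟩
  exact (Polynomial.isRegular_X (R := Q)).left.isSMulRegular

section core

variable {Q : Type u} [CommRing Q]

/-- the point of the spectrum of `S = Q[X]_h` over `𝔮`, with its tangent direction. -/
theorem exists_index_of_tangent (J : Ideal Q) (𝔮 : Ideal Q) [𝔮.IsPrime] (h𝔮 : J ≤ 𝔮)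
    (h : Polynomial Q) (hh : Polynomial.constantCoeff h ∉ 𝔮)
    (l : List (Localization.Away h))
    (hgen : (J.comap (Polynomial.constantCoeff : Polynomial Q →+* Q)).map
      (algebraMap (Polynomial Q) (Localization.Away h)) = Ideal.span {x | x ∈ l}) :
    ∃ (c : Fin l.length → Localization.Away h) (j : Fin l.length) (a : Polynomial Q) (k : ℕ),
      algebraMap (Polynomial Q) (Localization.Away h) Polynomial.X = ∑ i, c i * l.get i ∧
      c j * algebraMap (Polynomial Q) (Localization.Away h) (h ^ k) =
        algebraMap (Polynomial Q) (Localization.Away h) a ∧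
      Polynomial.constantCoeff a ∉ 𝔮 := by
  classical
  set ε : Polynomial Q →+* Q := Polynomial.constantCoeff with hε
  let κ := 𝔮.ResidueField
  let ρ : Q →+* κ := algebraMap Q κ
  have hρ : ∀ a, ρ a = 0 ↔ a ∈ 𝔮 := fun a => Ideal.algebraMap_residueField_eq_zero
  let Φ₀ : Polynomial Q →+* DualNumber κ :=
    Polynomial.eval₂RingHom ((algebraMap κ (DualNumber κ)).comp ρ) DualNumber.eps
  have hfst' : (TrivSqZeroExt.fstHom κ κ κ).toRingHom.comp Φ₀ = ρ.comp ε := by
    apply Polynomial.ringHom_ext
    · intro a
      simp [Φ₀, hε]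
    · simp [Φ₀, hε]
  have hfst : ∀ p, TrivSqZeroExt.fst (Φ₀ p) = ρ (ε p) := fun p =>
    congrArg (fun φ => φ p) hfst'
  have hunit : IsUnit (Φ₀ h) := by
    rw [TrivSqZeroExt.isUnit_iff_isUnit_fst, hfst]
    exact isUnit_iff_ne_zero.mpr (fun h0 => hh ((hρ _).mp h0))
  let Φ : Localization.Away h →+* DualNumber κ := IsLocalization.Away.lift h hunit
  have hΦ : ∀ p, Φ (algebraMap _ (Localization.Away h) p) = Φ₀ p := fun p =>
    IsLocalization.Away.lift_eq h hunit p
  set z : Localization.Away h := algebraMap (Polynomial Q) (Localization.Away h) Polynomial.X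
    with hzdef
  have hΦz : Φ z = DualNumber.eps := by
    rw [hzdef, hΦ]
    simp [Φ₀]
  have hKψ : ∀ s ∈ Ideal.span {x | x ∈ l}, TrivSqZeroExt.fst (Φ s) = 0 := by
    have hle : Ideal.span {x | x ∈ l} ≤
        RingHom.ker ((TrivSqZeroExt.fstHom κ κ κ).toRingHom.comp Φ) := by
      rw [← hgen, Ideal.map_le_iff_le_comap]
      intro k hk
      rw [Ideal.mem_comap, RingHom.mem_ker]
      change TrivSqZeroExt.fst (Φ (algebraMap _ (Localization.Away h) k)) = 0
      rw [hΦ, hfst, hρ]
      exact h𝔮 hk
    intro s hs
    exact hle hs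
  have hz : z ∈ Ideal.span {x | x ∈ l} := by
    rw [← hgen]
    apply Ideal.mem_map_of_mem
    rw [Ideal.mem_comap]
    have : ε Polynomial.X = 0 := by simp [hε]
    rw [this]
    exact zero_mem _
  have hrange : {x | x ∈ l} = Set.range l.get := by
    ext x
    simp [List.mem_iff_get]
  rw [hrange] at hz
  obtain ⟨c, hc⟩ := Ideal.mem_span_range_iff_exists_fun.mp hz
  obtain ⟨j, hj⟩ : ∃ j, TrivSqZeroExt.fst (Φ (c j)) ≠ 0 := by
    by_contra hcon
    push Not at hcon
    have h0 : Φ z = 0 := by
      rw [← hc, map_sum]
      apply Finset.sum_eq_zero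
      intro i _
      rw [map_mul]
      exact dualNumber_mul_eq_zero _ _ (hcon i)
        (hKψ _ (Ideal.subset_span (List.get_mem l i)))
    rw [hΦz] at h0
    have := congrArg TrivSqZeroExt.snd h0
    simp at this
  obtain ⟨⟨a, s⟩, hs⟩ := IsLocalization.surj (Submonoid.powers h) (c j)
  obtain ⟨k, hk⟩ := s.2
  have hk : h ^ k = s.1 := hk
  refine ⟨c, j, a, k, hc.symm, ?_, ?_⟩
  · rw [hk]
    exact hs
  · intro ha
    have h1 : TrivSqZeroExt.fst (Φ (c j * algebraMap _ (Localization.Away h) s.1)) = 0 := by
      rw [hs, hΦ, hfst, hρ]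
      exact ha
    rw [map_mul, TrivSqZeroExt.fst_mul, hΦ, hfst] at h1
    rcases mul_eq_zero.mp h1 with h2 | h2
    · exact hj h2
    · rw [← hk, map_pow, map_pow] at h2
      have := pow_eq_zero_iff (n := k) (by
        rintro rfl
        simp at h2) |>.mp h2
      exact hh ((hρ _).mp this)

/-- **cancellation of one polynomial variable**: if `J·Q[X] + (X)` is a Koszul-regular ideal of
`Q[X]` then `J` is a Koszul-regular ideal of `Q`. -/
theorem isKoszulRegularIdeal_of_comap_constantCoeff (J : Ideal Q)
    (hK : LCI.IsKoszulRegularIdeal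
      (J.comap (Polynomial.constantCoeff : Polynomial Q →+* Q))) :
    LCI.IsKoszulRegularIdeal J := by
  classical
  set ε : Polynomial Q →+* Q := Polynomial.constantCoeff with hε
  have hεsurj : Function.Surjective ε := fun a => ⟨Polynomial.C a, by simp [hε]⟩
  apply isKoszulRegularIdeal_of_models
  intro 𝔮 h𝔮
  obtain ⟨h, hh, l, hl, hgen⟩ := hK ⟨𝔮.asIdeal.comap ε, inferInstance⟩ (Ideal.comap_mono h𝔮)
  have hh' : ε h ∉ 𝔮.asIdeal := hh
  obtain ⟨c, j, a, k, hzc, hca, ha⟩ := exists_index_of_tangent J 𝔮.asIdeal h𝔮 h hh' l hgen
  -- the further localization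
  let φ : Localization.Away h →+*
      Localization.Away (algebraMap (Polynomial Q) (Localization.Away h) a) := algebraMap _ _
  haveI hloc : IsLocalization.Away (h * a)
      (Localization.Away (algebraMap (Polynomial Q) (Localization.Away h) a)) := inferInstance
  haveI : Module.Flat (Localization.Away h)
      (Localization.Away (algebraMap (Polynomial Q) (Localization.Away h) a)) :=
    IsLocalization.flat _ (Submonoid.powers (algebraMap (Polynomial Q) (Localization.Away h) a))
  haveI : Module.Flat (Polynomial Q)
      (Localization.Away (algebraMap (Polynomial Q) (Localization.Away h) a)) :=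
    IsLocalization.flat _ (Submonoid.powers (h * a))
  have hl' : LCI.IsKoszulRegularSeq _ (l.map φ) :=
    Groth.Agent.H4.KosBC.isKoszulRegularSeq_map l hl
  have hunit : IsUnit (φ (c j)) := by
    have h1 : φ (c j) * φ (algebraMap (Polynomial Q) (Localization.Away h) (h ^ k)) =
        φ (algebraMap (Polynomial Q) (Localization.Away h) a) := by rw [← map_mul, hca]
    have h2 : IsUnit (φ (algebraMap (Polynomial Q) (Localization.Away h) a)) :=
      IsLocalization.Away.algebraMap_isUnit _
    rw [← h1] at h2
    exact isUnit_of_mul_isUnit_left h2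
  have hj' : j.val < (l.map φ).length := by simp
  set z' := φ (algebraMap (Polynomial Q) (Localization.Away h) Polynomial.X) with hz'def
  have hz'alg : z' = algebraMap (Polynomial Q)
      (Localization.Away (algebraMap (Polynomial Q) (Localization.Away h) a)) Polynomial.X :=
    (IsScalarTower.algebraMap_apply _ _ _ _).symm
  let w := ∑ i ∈ Finset.univ.erase j, φ (c i) * φ (l.get i)
  have hz' : z' = φ (c j) * (l.map φ)[j.val] + w := by
    rw [hz'def, hzc, map_sum, ← Finset.add_sum_erase _ _ (Finset.mem_univ j)]
    simp only [map_mul, List.getElem_map, w]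
    rfl
  have hw : w ∈ Ideal.ofList ((l.map φ).eraseIdx j.val) := by
    apply Ideal.sum_mem
    intro i hi
    apply Ideal.mul_mem_left
    apply Ideal.subset_span
    rw [Set.mem_ofPred_eq, List.mem_eraseIdx_iff_getElem]
    refine ⟨i.val, by simp, ?_, ?_⟩
    · intro hij
      exact (Finset.ne_of_mem_erase hi) (Fin.ext hij)
    · simp
  obtain ⟨hKR, hspan⟩ := isKoszulRegularSeq_exchange (l.map φ) j.val hj' z' (φ (c j)) w hl' hunit
    hw hz'
  -- the quotient by `z'`
  have hg : ε (h * a) ∉ 𝔮.asIdeal := by
    rw [map_mul]
    intro hmem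
    rcases (inferInstance : 𝔮.asIdeal.IsPrime).mem_or_mem hmem with h1 | h1
    · exact hh' h1
    · exact ha h1
  haveI : IsLocalization ((Submonoid.powers (h * a)).map ε) (Localization.Away (ε (h * a))) := by
    rw [Submonoid.map_powers]; infer_instance
  letI : Algebra (Localization.Away (algebraMap (Polynomial Q) (Localization.Away h) a))
      (Localization.Away (ε (h * a))) :=
    (IsLocalization.map (M := Submonoid.powers (h * a))
      (T := (Submonoid.powers (h * a)).map ε) (Localization.Away (ε (h * a))) ε
      (Submonoid.le_comap_map _)).toAlgebra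
  have hsurj : Function.Surjective (algebraMap
      (Localization.Away (algebraMap (Polynomial Q) (Localization.Away h) a))
      (Localization.Away (ε (h * a)))) :=
    IsLocalization.map_surjective_of_surjective (M := Submonoid.powers (h * a))
      (S := Localization.Away (algebraMap (Polynomial Q) (Localization.Away h) a))
      (Q := Localization.Away (ε (h * a))) hεsurj
  have hker : RingHom.ker (algebraMap
      (Localization.Away (algebraMap (Polynomial Q) (Localization.Away h) a))
      (Localization.Away (ε (h * a)))) = Ideal.span {x | x ∈ [z']} := by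
    have h1 := IsLocalization.ker_map (M := Submonoid.powers (h * a))
      (S := Localization.Away (algebraMap (Polynomial Q) (Localization.Away h) a))
      (T := (Submonoid.powers (h * a)).map ε)
      (Localization.Away (ε (h * a))) ε rfl
    have h2 : RingHom.ker ε = Ideal.span {Polynomial.X} := Polynomial.ker_constantCoeff
    rw [h2, Ideal.map_span, Set.image_singleton, ← hz'alg] at h1
    rw [show {x | x ∈ [z']} = {z'} by ext; simp]
    exact h1
  have hsq : (algebraMap (Localization.Away (algebraMap (Polynomial Q) (Localization.Away h) a))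
      (Localization.Away (ε (h * a)))).comp (algebraMap (Polynomial Q) _) =
      (algebraMap Q (Localization.Away (ε (h * a)))).comp ε :=
    IsLocalization.map_comp _
  have hzKR : LCI.IsKoszulRegularSeq _ [z'] := by
    have := Groth.Agent.H4.KosBC.isKoszulRegularSeq_map (A := Polynomial Q)
      (B := Localization.Away (algebraMap (Polynomial Q) (Localization.Away h) a))
      [Polynomial.X] (isKoszulRegularSeq_singleton_X Q)
    rw [List.map_singleton, ← hz'alg] at this
    exact this
  have hcancel := isKoszulRegularSeq_map_of_append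
    (C := Localization.Away (ε (h * a))) [z'] ((l.map φ).eraseIdx j.val) hzKR hsurj hker hKR
  refine ⟨ε (h * a), hg, Localization.Away (ε (h * a)), inferInstance, inferInstance,
    inferInstance, _, hcancel, ?_⟩
  -- generation
  have h1 : (J.comap ε).map (algebraMap (Polynomial Q)
      (Localization.Away (algebraMap (Polynomial Q) (Localization.Away h) a))) =
      Ideal.ofList ((l.map φ).eraseIdx j.val ++ [z']) := by
    have hcomp : algebraMap (Polynomial Q)
        (Localization.Away (algebraMap (Polynomial Q) (Localization.Away h) a)) =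
        φ.comp (algebraMap (Polynomial Q) (Localization.Away h)) :=
      IsScalarTower.algebraMap_eq _ _ _
    rw [hspan, hcomp, ← Ideal.map_map, hgen, map_span_mem]
  have h2 : J.map (algebraMap Q (Localization.Away (ε (h * a)))) =
      ((J.comap ε).map (algebraMap (Polynomial Q)
        (Localization.Away (algebraMap (Polynomial Q) (Localization.Away h) a)))).map
        (algebraMap _ (Localization.Away (ε (h * a)))) := by
    rw [Ideal.map_map, hsq, ← Ideal.map_map, Ideal.map_comap_of_surjective ε hεsurj]
  rw [h2, h1]
  change Ideal.map _ (Ideal.span {x | x ∈ (l.map φ).eraseIdx j.val ++ [z']}) = _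
  rw [map_span_mem, List.map_append, span_mem_append, List.map_singleton]
  have h3 : Ideal.span {x | x ∈ [algebraMap
      (Localization.Away (algebraMap (Polynomial Q) (Localization.Away h) a))
      (Localization.Away (ε (h * a))) z']} = ⊥ := by
    rw [show {x | x ∈ [algebraMap
      (Localization.Away (algebraMap (Polynomial Q) (Localization.Away h) a))
      (Localization.Away (ε (h * a))) z']} = {algebraMap _ _ z'} by ext; simp]
    rw [Ideal.span_singleton_eq_bot, ← RingHom.mem_ker, hker]
    exact Ideal.subset_span (by simp)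
  rw [h3, sup_bot_eq]

end core

end Groth.Agent.H8.KosIndep
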