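import Mathlib
import Groth.Prelude
import Groth.Agent.Lib.Helper8.Kos.P1

set_option autoImplicit false
set_option linter.style.haveILetI false

universe u

namespace Groth.Agent.H8.KosIndep

open Groth.Agent.H8.KosConcat Groth.Agent.H8.SyntLocal

/-- transport of a Koszul-regular preimage along an isomorphism. -/
theorem isKoszulRegularIdeal_of_comap_ringEquiv {A A' : Type u} [CommRing A] [CommRing A']
    (e : A ≃+* A') (I : Ideal A')
    (h : LCI.IsKoszulRegularIdeal (I.comap (e : A →+* A'))) : LCI.IsKoszulRegularIdeal I := by
  have := isKoszulRegularIdeal_map_ringEquiv e _ h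
  rwa [Ideal.map_comap_of_surjective (e : A →+* A') e.surjective] at this

/-- **cancellation of polynomial variables**. -/
theorem isKoszulRegularIdeal_of_comap_mvConstantCoeff : ∀ (n : ℕ) (Q : Type u) [CommRing Q]
    (J : Ideal Q),
    LCI.IsKoszulRegularIdeal
      (J.comap (MvPolynomial.constantCoeff : MvPolynomial (Fin n) Q →+* Q)) →
    LCI.IsKoszulRegularIdeal J
  | 0, Q, _, J, h => by
    have he : ((MvPolynomial.isEmptyRingEquiv Q (Fin 0) : MvPolynomial (Fin 0) Q ≃+* Q) :
        MvPolynomial (Fin 0) Q →+* Q) = MvPolynomial.constantCoeff := by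
      apply MvPolynomial.ringHom_ext
      · intro a
        simp only [RingHom.coe_coe, MvPolynomial.isEmptyRingEquiv_eq_coeff_zero]
        rfl
      · intro i
        exact Fin.elim0 i
    rw [← he] at h
    exact isKoszulRegularIdeal_of_comap_ringEquiv _ J h
  | n + 1, Q, _, J, h => by
    have he : (MvPolynomial.constantCoeff : MvPolynomial (Fin (n + 1)) Q →+* Q) =
        ((MvPolynomial.constantCoeff : MvPolynomial (Fin n) Q →+* Q).comp
          (Polynomial.constantCoeff : Polynomial (MvPolynomial (Fin n) Q) →+* _)).comp
          ((MvPolynomial.finSuccEquiv Q n).toRingEquiv :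
            MvPolynomial (Fin (n + 1)) Q →+* Polynomial (MvPolynomial (Fin n) Q)) := by
      apply MvPolynomial.ringHom_ext
      · intro a
        have h1 : (MvPolynomial.finSuccEquiv Q n) (MvPolynomial.C a) =
            Polynomial.C (MvPolynomial.C a) := by
          simpa using (MvPolynomial.finSuccEquiv Q n).commutes a
        simp only [RingHom.comp_apply, RingHom.coe_coe, AlgEquiv.coe_ringEquiv, h1, Polynomial.constantCoeff_apply, Polynomial.coeff_C_zero,
          MvPolynomial.constantCoeff_C]
      · intro i
        refine Fin.cases ?_ (fun k => ?_) i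
        · simp only [RingHom.comp_apply, RingHom.coe_coe, AlgEquiv.coe_ringEquiv, MvPolynomial.finSuccEquiv_X_zero,
            Polynomial.constantCoeff_apply, Polynomial.coeff_X_zero, map_zero,
            MvPolynomial.constantCoeff_X]
        · simp only [RingHom.comp_apply, RingHom.coe_coe, AlgEquiv.coe_ringEquiv, MvPolynomial.finSuccEquiv_X_succ,
            Polynomial.constantCoeff_apply, Polynomial.coeff_C_zero,
            MvPolynomial.constantCoeff_X]
    rw [he, ← Ideal.comap_comap, ← Ideal.comap_comap] at h
    have h1 := isKoszulRegularIdeal_of_comap_ringEquiv _ _ h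
    have h2 := isKoszulRegularIdeal_of_comap_constantCoeff _ h1
    exact isKoszulRegularIdeal_of_comap_mvConstantCoeff n Q J h2

end Groth.Agent.H8.KosIndep
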