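import Mathlib
import Groth.Prelude
import Groth.Agent.Lib.Helper8.Kos.Pn

set_option autoImplicit false
set_option linter.style.haveILetI false

universe u

namespace Groth.Agent.H8.KosIndep

open Groth.Agent.H8.KosConcat Groth.Agent.H8.SyntLocal

section shift

variable {P : Type u} [CommRing P] {m : ℕ}

lemma ker_mvConstantCoeff :
    RingHom.ker (MvPolynomial.constantCoeff : MvPolynomial (Fin m) P →+* P) =
      Ideal.span {x | x ∈ List.ofFn (fun i => (MvPolynomial.X i : MvPolynomial (Fin m) P))} := by
  have h := ker_aeval_zero P m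
  have h1 : (MvPolynomial.aeval (R := P) (fun _ : Fin m => (0 : P))).toRingHom =
      MvPolynomial.constantCoeff := by
    apply MvPolynomial.ringHom_ext
    · intro a
      simp
    · intro i
      simp
  rw [h1] at h
  rw [h]
  congr 1
  ext x
  simp [List.mem_ofFn]

/-- the shift automorphism `X j ↦ X j + f j`. -/
noncomputable def shiftEquiv (f : Fin m → P) :
    MvPolynomial (Fin m) P ≃ₐ[P] MvPolynomial (Fin m) P :=
  AlgEquiv.ofAlgHom
    (MvPolynomial.aeval (fun j => MvPolynomial.X j + MvPolynomial.C (f j)))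
    (MvPolynomial.aeval (fun j => MvPolynomial.X j - MvPolynomial.C (f j)))
    (by
      apply MvPolynomial.algHom_ext
      intro j
      simp)
    (by
      apply MvPolynomial.algHom_ext
      intro j
      simp)

lemma constantCoeff_comp_shiftEquiv (f : Fin m → P) :
    (MvPolynomial.constantCoeff : MvPolynomial (Fin m) P →+* P).comp
      ((shiftEquiv f).toRingEquiv : MvPolynomial (Fin m) P →+* MvPolynomial (Fin m) P) =
      (MvPolynomial.aeval f : MvPolynomial (Fin m) P →ₐ[P] P).toRingHom := by
  apply MvPolynomial.ringHom_ext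
  · intro a
    simp [shiftEquiv]
  · intro j
    simp [shiftEquiv]

/-- E1: preimage of a Koszul-regular ideal under an evaluation `P[y] → P`. -/
theorem isKoszulRegularIdeal_comap_aeval (f : Fin m → P) (I : Ideal P)
    (hI : LCI.IsKoszulRegularIdeal I) :
    LCI.IsKoszulRegularIdeal
      (I.comap (MvPolynomial.aeval f : MvPolynomial (Fin m) P →ₐ[P] P).toRingHom) := by
  have h1 : LCI.IsKoszulRegularIdeal
      (I.comap (MvPolynomial.constantCoeff : MvPolynomial (Fin m) P →+* P)) :=
    isKoszulRegularIdeal_comap_of_seq _ (fun a => ⟨MvPolynomial.C a, by simp⟩) _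
      (isKoszulRegularSeq_vars P m) ker_mvConstantCoeff I hI
  rw [← constantCoeff_comp_shiftEquiv f, ← Ideal.comap_comap]
  apply isKoszulRegularIdeal_of_comap_ringEquiv (shiftEquiv f).symm.toRingEquiv
  rw [Ideal.comap_comap]
  have : ((shiftEquiv f).toRingEquiv : MvPolynomial (Fin m) P →+* MvPolynomial (Fin m) P).comp
      ((shiftEquiv f).symm.toRingEquiv : MvPolynomial (Fin m) P →+* MvPolynomial (Fin m) P) =
      RingHom.id _ := by
    ext x <;> simp
  rw [this, Ideal.comap_id]
  exact h1

/-- E2: cancellation along an evaluation `Q[x] → Q`. -/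
theorem isKoszulRegularIdeal_of_comap_aeval (f : Fin m → P) (J : Ideal P)
    (hJ : LCI.IsKoszulRegularIdeal
      (J.comap (MvPolynomial.aeval f : MvPolynomial (Fin m) P →ₐ[P] P).toRingHom)) :
    LCI.IsKoszulRegularIdeal J := by
  rw [← constantCoeff_comp_shiftEquiv f, ← Ideal.comap_comap] at hJ
  exact isKoszulRegularIdeal_of_comap_mvConstantCoeff m P J
    (isKoszulRegularIdeal_of_comap_ringEquiv _ _ hJ)

end shift

/-- **independence of the presentation** for Koszul-regularity of the kernel. -/
theorem main9269 (A B : Type u) [CommRing A] [CommRing B] [Algebra A B] (n m : ℕ)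
    (α : MvPolynomial (Fin n) A →ₐ[A] B) (hα : Function.Surjective α)
    (β : MvPolynomial (Fin m) A →ₐ[A] B) (hβ : Function.Surjective β)
    (h : LCI.IsKoszulRegularIdeal (RingHom.ker α.toRingHom)) :
    LCI.IsKoszulRegularIdeal (RingHom.ker β.toRingHom) := by
  classical
  choose f hf using fun j : Fin m => hα (β (MvPolynomial.X j))
  choose g hg using fun i : Fin n => hβ (α (MvPolynomial.X i))
  let φ₁ : MvPolynomial (Fin m) (MvPolynomial (Fin n) A) →+* MvPolynomial (Fin n) A :=
    (MvPolynomial.aeval f : MvPolynomial (Fin m) (MvPolynomial (Fin n) A) →ₐ[_] _).toRingHom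
  let φ₂ : MvPolynomial (Fin n) (MvPolynomial (Fin m) A) →+* MvPolynomial (Fin m) A :=
    (MvPolynomial.aeval g : MvPolynomial (Fin n) (MvPolynomial (Fin m) A) →ₐ[_] _).toRingHom
  let c : MvPolynomial (Fin m) (MvPolynomial (Fin n) A) ≃+*
      MvPolynomial (Fin n) (MvPolynomial (Fin m) A) :=
    (MvPolynomial.commAlgEquiv A (Fin m) (Fin n)).toRingEquiv
  have hcomm : α.toRingHom.comp φ₁ = (β.toRingHom.comp φ₂).comp (c : _ →+* _) := by
    apply MvPolynomial.ringHom_ext
    · intro p
      have : (α.toRingHom.comp φ₁).comp MvPolynomial.C =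
          ((β.toRingHom.comp φ₂).comp
            (c : MvPolynomial (Fin m) (MvPolynomial (Fin n) A) →+*
              MvPolynomial (Fin n) (MvPolynomial (Fin m) A))).comp MvPolynomial.C := by
        apply MvPolynomial.ringHom_ext
        · intro a
          simp [φ₁, φ₂, c]
        · intro i
          simp [φ₁, φ₂, c, hg]
      exact congrArg (fun F => F p) this
    · intro j
      simp [φ₁, φ₂, c, hf]
  have h1 := isKoszulRegularIdeal_comap_aeval f _ h
  have h2 : (RingHom.ker α.toRingHom).comap φ₁ =
      ((RingHom.ker β.toRingHom).comap φ₂).comap (c : _ →+* _) := by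
    rw [RingHom.comap_ker, Ideal.comap_comap, RingHom.comap_ker, hcomm, RingHom.comp_assoc]
  change LCI.IsKoszulRegularIdeal ((RingHom.ker α.toRingHom).comap φ₁) at h1
  rw [h2] at h1
  have h3 := isKoszulRegularIdeal_of_comap_ringEquiv c _ h1
  exact isKoszulRegularIdeal_of_comap_aeval g _ h3

end Groth.Agent.H8.KosIndep
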